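import Mathlib.LinearAlgebra.ExteriorPower.Basis
import Mathlib.LinearAlgebra.TensorProduct.Quotient
import Mathlib.Algebra.Module.LocalizedModule.Basic
import Mathlib.RingTheory.Noetherian.Basic
import Mathlib.Algebra.Algebra.RestrictScalars
import Mathlib.Tactic.Abel
import Mathlib.Tactic.Ring
import Mathlib.RingTheory.Ideal.Quotient.Operations
import Mathlib.RingTheory.Localization.AtPrime.Basic

/-!
# Exterior powers of the kernel of a base changed sum map, prime by prime
-/

set_option autoImplicit false
set_option backward.isDefEq.respectTransparency false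
set_option backward.isDefEq.respectTransparency.types false

universe u

open TensorProduct

noncomputable section

namespace Groth.Agent.H28.Tor3

variable {A : Type u} [CommRing A] (S : Submonoid A)

/-- Two maps inverse to one another up to an element of the monoid become bijective after localisation. -/
theorem bijective_map_of_inverse {M N : Type u} [AddCommGroup M] [Module A M] [AddCommGroup N] [Module A N]
    (f : M →ₗ[A] N) (g : N →ₗ[A] M) (t : S) (hgf : ∀ m, g (f m) = t • m) (hfg : ∀ n, f (g n) = t • n) :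
    Function.Bijective (LocalizedModule.map S f) := by
  refine ⟨(injective_iff_map_eq_zero _).2 fun x => ?_, fun y => ?_⟩
  · induction x using LocalizedModule.induction_on with
    | _ m s =>
      intro h
      rw [LocalizedModule.map_mk, ← LocalizedModule.zero_mk (1 : S), LocalizedModule.mk_eq] at h
      obtain ⟨v, hv⟩ := h
      simp only [smul_zero, one_smul] at hv
      rw [← LocalizedModule.zero_mk (1 : S), LocalizedModule.mk_eq]
      refine ⟨v * t, ?_⟩
      have h2 := congrArg g hv
      rw [map_zero, Submonoid.smul_def, map_smul, hgf, ← Submonoid.smul_def] at h2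
      simp only [smul_zero, one_smul, mul_smul]
      exact h2
  · induction y using LocalizedModule.induction_on with
    | _ n s =>
      refine ⟨LocalizedModule.mk (g n) (t * s), ?_⟩
      rw [LocalizedModule.map_mk, hfg]
      exact LocalizedModule.mk_cancel_common_left t s n

variable {B : Type u} [CommRing B] [Algebra A B]

/-- If every element is carried into a submodule by an element of the monoid, one element does it for all. -/
theorem exists_uniform {V : Type u} [AddCommGroup V] [Module B V] [Module.Finite B V] (N : Submodule B V)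
    (h : ∀ v, ∃ s ∈ S, algebraMap A B s • v ∈ N) : ∃ t ∈ S, ∀ v, algebraMap A B t • v ∈ N := by
  classical
  obtain ⟨G, hG⟩ := Module.Finite.fg_top (R := B) (M := V)
  choose s hs hv using h
  refine ⟨∏ v ∈ G, s v, prod_mem fun v _ => hs v, fun v => ?_⟩
  have : v ∈ Submodule.span B (G : Set V) := hG ▸ trivial
  induction this using Submodule.span_induction with
  | mem x hx =>
    rw [← Finset.prod_erase_mul G s hx, map_mul, mul_smul]
    exact N.smul_mem _ (hv x)
  | zero => rw [smul_zero]; exact N.zero_mem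
  | add a b _ _ ha hb => rw [smul_add]; exact N.add_mem ha hb
  | smul c a _ ha => rw [smul_comm]; exact N.smul_mem c ha

theorem map_smul_id {W : Type u} [AddCommGroup W] [Module B W] (q : ℕ) (c : B) :
    exteriorPower.map q (c • (LinearMap.id : W →ₗ[B] W)) = c ^ q • LinearMap.id := by
  refine exteriorPower.linearMap_ext (AlternatingMap.ext fun m => ?_)
  simp only [LinearMap.compAlternatingMap_apply, exteriorPower.map_apply_ιMulti, LinearMap.smul_apply,
    LinearMap.id_apply]
  have h := (exteriorPower.ιMulti B q (M := W)).toMultilinearMap.map_smul_univ (fun _ => c) m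
  rw [Finset.prod_const, Finset.card_univ, Fintype.card_fin] at h
  exact h

/-- A module with a presentation that becomes an isomorphism after localisation has the localised exterior
powers of a free module. -/
theorem nonempty_localized_extPow [IsNoetherianRing B] {K : Type u} [AddCommGroup K] [Module B K]
    [Module.Finite B K] (e q : ℕ) (φ : (Fin e → B) →ₗ[B] K)
    (hker : ∀ β, φ β = 0 → ∃ s ∈ S, algebraMap A B s • β = 0)
    (hsurj : ∀ z, ∃ s ∈ S, algebraMap A B s • z ∈ LinearMap.range φ) :
    Nonempty (LocalizedModule S (Fin (e.choose q) → B) ≃ₗ[A]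
      LocalizedModule S (RestrictScalars A B ↥(⋀[B]^q K))) := by
  classical
  obtain ⟨t₁, ht₁, h₁⟩ := exists_uniform S (⊥ : Submodule B (LinearMap.ker φ)) fun z => by
    obtain ⟨s, hs, hz⟩ := hker z z.2
    exact ⟨s, hs, (Submodule.mem_bot B).2 (Subtype.ext hz)⟩
  obtain ⟨t₂, ht₂, h₂⟩ := exists_uniform S (LinearMap.range φ) hsurj
  choose y hy using h₂
  let c₁ := algebraMap A B t₁
  let c₂ := algebraMap A B t₂
  have hk : ∀ β, φ β = 0 → c₁ • β = 0 := fun β hβ =>
    congrArg Subtype.val ((Submodule.mem_bot B).1 (h₁ ⟨β, hβ⟩))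
  let ψ : K →ₗ[B] (Fin e → B) :=
    { toFun := fun z => c₁ • y z
      map_add' := fun a b => by
        rw [← sub_eq_zero, ← smul_add, ← smul_sub]
        refine hk _ ?_
        rw [map_sub, map_add, hy, hy, hy, ← smul_add, sub_self]
      map_smul' := fun c a => by
        rw [RingHom.id_apply, smul_comm c c₁, ← sub_eq_zero, ← smul_sub]
        refine hk _ ?_
        rw [map_sub, map_smul, hy, hy, smul_comm, sub_self] }
  let c := algebraMap A B (t₁ * t₂)
  have hφψ : φ.comp ψ = c • LinearMap.id := LinearMap.ext fun z => by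
    show φ (c₁ • y z) = c • z
    rw [map_smul, hy, smul_smul, ← map_mul]
  have hψφ : ψ.comp φ = c • LinearMap.id := LinearMap.ext fun β => by
    show c₁ • y (φ β) = c • β
    rw [show c = c₁ * c₂ from map_mul _ _ _, mul_smul, ← sub_eq_zero, ← smul_sub]
    refine hk _ ?_
    rw [map_sub, map_smul, hy, sub_self]
  let b : Module.Basis (Fin (e.choose q)) B (⋀[B]^q (Fin e → B)) :=
    ((Pi.basisFun B (Fin e)).exteriorPower (n := q)).reindex (Fintype.equivFinOfCardEq (by
      rw [← Nat.card_eq_fintype_card, Set.powersetCard.card, Nat.card_eq_fintype_card, Fintype.card_fin]))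
  let W := ↥(⋀[B]^q K)
  let ρ := RestrictScalars.addEquiv A B W
  let Φ : (Fin (e.choose q) → B) →ₗ[B] W := (exteriorPower.map q φ).comp b.equivFun.symm.toLinearMap
  let Ψ : W →ₗ[B] (Fin (e.choose q) → B) := b.equivFun.toLinearMap.comp (exteriorPower.map q ψ)
  let f : (Fin (e.choose q) → B) →ₗ[A] RestrictScalars A B W :=
    { toFun := fun v => ρ.symm (Φ v)
      map_add' := fun a b => by rw [map_add, map_add]
      map_smul' := fun r v => by
        rw [RingHom.id_apply, ← algebraMap_smul B r v, map_smul]
        exact ρ.injective (by rw [AddEquiv.apply_symm_apply, RestrictScalars.addEquiv_map_smul, AddEquiv.apply_symm_apply]) }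
  let g : RestrictScalars A B W →ₗ[A] (Fin (e.choose q) → B) :=
    { toFun := fun w => Ψ (ρ w)
      map_add' := fun a b => by rw [map_add, map_add]
      map_smul' := fun r v => by
        rw [RingHom.id_apply, RestrictScalars.addEquiv_map_smul, map_smul, algebraMap_smul] }
  let t : S := ⟨(t₁ * t₂) ^ q, pow_mem (mul_mem ht₁ ht₂) q⟩
  have hc : algebraMap A B (t : A) = c ^ q := map_pow _ _ _
  have hgf : ∀ v, g (f v) = t • v := fun v => by
    show b.equivFun (exteriorPower.map q ψ (ρ (ρ.symm (exteriorPower.map q φ (b.equivFun.symm v))))) = t • v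
    rw [AddEquiv.apply_symm_apply, ← LinearMap.comp_apply, ← exteriorPower.map_comp, hψφ, map_smul_id,
      LinearMap.smul_apply, LinearMap.id_apply, map_smul, LinearEquiv.apply_symm_apply, Submonoid.smul_def,
      ← algebraMap_smul B (t : A) v, hc]
  have hfg : ∀ w, f (g w) = t • w := fun w => by
    refine ρ.injective ?_
    show ρ (ρ.symm (exteriorPower.map q φ (b.equivFun.symm (b.equivFun (exteriorPower.map q ψ (ρ w)))))) = _
    rw [AddEquiv.apply_symm_apply, LinearEquiv.symm_apply_apply, ← LinearMap.comp_apply, ← exteriorPower.map_comp,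
      hφψ, map_smul_id, LinearMap.smul_apply, LinearMap.id_apply, Submonoid.smul_def,
      RestrictScalars.addEquiv_map_smul, hc]
  exact ⟨(LinearEquiv.ofBijective (LocalizedModule.map S f) (bijective_map_of_inverse S f g t hgf hfg)).restrictScalars A⟩

/-- The zero elements of `(A/J) ⊗ M` among the pure tensors `1 ⊗ m`. -/
theorem one_tmul_eq_zero_iff (J : Ideal A) {M : Type u} [AddCommGroup M] [Module A M] (m : M) :
    (1 : A ⧸ J) ⊗ₜ[A] m = 0 ↔ m ∈ J • (⊤ : Submodule A M) := by
  rw [← (TensorProduct.quotTensorEquivQuotSMul M J).map_eq_zero_iff, ← map_one (Ideal.Quotient.mk J),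
    TensorProduct.quotTensorEquivQuotSMul_mk_tmul, one_smul, Submodule.Quotient.mk_eq_zero]

/-- An element of an ideal `I` in `J • I` lies in the product. -/
theorem coe_mem_mul_of_mem_smul (J I : Ideal A) (m : I) (h : m ∈ J • (⊤ : Submodule A I)) : (m : A) ∈ J * I := by
  have h2 := Submodule.mem_map_of_mem (f := Submodule.subtype (I : Submodule A A)) h
  rw [Submodule.map_smul'', Submodule.map_top, Submodule.range_subtype, smul_eq_mul] at h2
  exact h2

/-- A presentation, at a prime, of the kernel of a base changed map to an ideal. -/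
theorem exists_presentation (J : Ideal A) {M : Type u} [AddCommGroup M] [Module A M] (T : M →ₗ[A] J)
    {e m : ℕ} (u : Fin e → M) (v : Fin m → M)
    (hgen : ∀ y : M, ∃ s ∈ S, ∃ (a : Fin e → A) (b : Fin m → A), s • y = ∑ x, a x • u x + ∑ j, b j • v j)
    (hind : ∀ (a : Fin e → A) (b : Fin m → A), (∑ x, a x • u x + ∑ j, b j • v j) ∈ J • (⊤ : Submodule A M) →
      ∀ x, ∃ s ∈ S, s * a x ∈ J)
    (hg : ∀ x, ∃ s ∈ S, ∃ b : Fin m → A, s • T (u x) = ∑ j, b j • T (v j))
    (hgind : ∀ b : Fin m → A, ((∑ j, b j • T (v j) : J) : A) ∈ J * J → ∀ j, ∃ s ∈ S, s * b j ∈ J) :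
    ∃ φ : (Fin e → A ⧸ J) →ₗ[A ⧸ J] ↥(LinearMap.ker (T.baseChange (A ⧸ J))),
      (∀ β, φ β = 0 → ∃ s ∈ S, algebraMap A (A ⧸ J) s • β = 0) ∧
      (∀ z, ∃ s ∈ S, algebraMap A (A ⧸ J) s • z ∈ LinearMap.range φ) := by
  classical
  choose s hs c hc using hg
  let τ := ∏ x, s x
  have hτ : τ ∈ S := prod_mem fun x _ => hs x
  have hc' : ∀ x, ∃ d : Fin m → A, τ • T (u x) = ∑ j, d j • T (v j) := fun x => by
    refine ⟨fun j => (∏ y ∈ Finset.univ.erase x, s y) * c x j, ?_⟩
    simp_rw [mul_smul]
    rw [← Finset.smul_sum, ← hc, smul_smul, Finset.prod_erase_mul _ _ (Finset.mem_univ x)]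
  choose d hd using hc'
  let w : Fin e → M := fun x => τ • u x - ∑ j, d x j • v j
  have hw : ∀ x, T (w x) = 0 := fun x => by simp [w, hd]
  let wK : Fin e → ↥(LinearMap.ker (T.baseChange (A ⧸ J))) := fun x => ⟨1 ⊗ₜ[A] w x, by
    rw [LinearMap.mem_ker, LinearMap.baseChange_tmul, hw, tmul_zero]⟩
  let φ := Fintype.linearCombination (A ⧸ J) wK
  have hφ : ∀ a : Fin e → A, (φ (fun x => Ideal.Quotient.mk J (a x))).1 = (1 : A ⧸ J) ⊗ₜ[A] (∑ x, a x • w x) := fun a => by
    rw [Fintype.linearCombination_apply, Submodule.coe_sum, tmul_sum]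
    refine Finset.sum_congr rfl fun x _ => ?_
    show Ideal.Quotient.mk J (a x) • ((1 : A ⧸ J) ⊗ₜ[A] w x) = _
    rw [smul_tmul', tmul_smul, smul_tmul', smul_eq_mul, Algebra.smul_def, mul_one, mul_one]
    rfl
  refine ⟨φ, fun β hβ => ?_, fun z => ?_⟩
  · choose a ha using fun x => Ideal.Quotient.mk_surjective (β x)
    obtain rfl : (fun x => Ideal.Quotient.mk J (a x)) = β := funext ha
    have h0 := congrArg Subtype.val hβ
    rw [hφ, Submodule.coe_zero, one_tmul_eq_zero_iff] at h0
    have h1 : ∑ x, a x • w x = ∑ x, (a x * τ) • u x + ∑ j, (-∑ x, a x * d x j) • v j := by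
      simp only [w, smul_sub, Finset.sum_sub_distrib, Finset.smul_sum, smul_smul, neg_smul, Finset.sum_neg_distrib,
        Finset.sum_smul]
      rw [Finset.sum_comm (f := fun x j => (a x * d x j) • v j), ← sub_eq_add_neg]
    rw [h1] at h0
    choose r hr hr' using hind _ _ h0
    refine ⟨(∏ x, r x) * τ, mul_mem (prod_mem fun x _ => hr x) hτ, funext fun x => ?_⟩
    show algebraMap A (A ⧸ J) _ * Ideal.Quotient.mk J (a x) = 0
    rw [Ideal.Quotient.algebraMap_eq, ← map_mul, Ideal.Quotient.eq_zero_iff_mem]
    have h5 : (∏ x, r x) * τ * a x = (∏ y ∈ Finset.univ.erase x, r y) * (r x * (a x * τ)) := by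
      rw [← Finset.prod_erase_mul _ _ (Finset.mem_univ x)]
      ring
    rw [h5]
    exact J.mul_mem_left _ (hr' x)
  · obtain ⟨y, hy⟩ := TensorProduct.mk_surjective A M (A ⧸ J) Ideal.Quotient.mk_surjective z.1
    change (1 : A ⧸ J) ⊗ₜ[A] y = z.1 at hy
    have hz : (T y : A) ∈ J * J := by
      have h := z.2
      rw [LinearMap.mem_ker, ← hy, LinearMap.baseChange_tmul, one_tmul_eq_zero_iff] at h
      exact coe_mem_mul_of_mem_smul J J (T y) h
    obtain ⟨r, hr, a, b, hab⟩ := hgen y
    let d' : Fin m → A := fun j => ∑ x, a x * d x j + τ * b j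
    have h2 : (τ * r) • y = ∑ x, a x • w x + ∑ j, d' j • v j := by
      have hwu : ∀ x, a x • w x = (a x * τ) • u x - ∑ j, (a x * d x j) • v j := fun x => by
        simp only [w, smul_sub, Finset.smul_sum, smul_smul]
      rw [mul_smul, hab, smul_add, Finset.smul_sum, Finset.smul_sum]
      simp only [smul_smul, hwu, d', add_smul, Finset.sum_smul, Finset.sum_add_distrib, Finset.sum_sub_distrib,
        mul_comm τ]
      rw [Finset.sum_comm (f := fun x j => (a x * d x j) • v j)]
      abel
    have h3 : ((∑ j, d' j • T (v j) : J) : A) ∈ J * J := by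
      have h4 := congrArg T h2
      rw [map_smul, map_add, map_sum, map_sum] at h4
      simp only [map_smul, hw, smul_zero, Finset.sum_const_zero, zero_add] at h4
      rw [← h4]
      exact Ideal.mul_mem_left _ _ hz
    choose r' hr' hr'' using hgind _ h3
    let R' := ∏ j, r' j
    refine ⟨R' * (τ * r), mul_mem (prod_mem fun j _ => hr' j) (mul_mem hτ hr),
      fun x => Ideal.Quotient.mk J (R' * a x), Subtype.ext ?_⟩
    rw [hφ]
    show _ = algebraMap A (A ⧸ J) (R' * (τ * r)) • z.1
    rw [← hy, algebraMap_smul, ← tmul_smul, mul_smul, h2, smul_add, ← sub_eq_zero, ← tmul_sub,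
      one_tmul_eq_zero_iff]
    simp only [Finset.smul_sum, smul_smul, sub_add_cancel_left]
    refine Submodule.neg_mem _ (Submodule.sum_mem _ fun j _ => ?_)
    refine Submodule.smul_mem_smul ?_ trivial
    show R' * d' j ∈ J
    rw [show R' = (∏ i ∈ Finset.univ.erase j, r' i) * r' j from (Finset.prod_erase_mul _ _ (Finset.mem_univ j)).symm, mul_assoc]
    exact J.mul_mem_left _ (hr'' j)

end Groth.Agent.H28.Tor3
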