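import Groth.Agent.H28.TorExt
import Groth.Agent.KFlatLib.Ring.LTen3
import Mathlib.LinearAlgebra.TensorProduct.Quotient
import Mathlib.RingTheory.Localization.BaseChange

/-!
# The triple derived tensor product of three modules after a flat base change, by Koszul complexes
-/

set_option autoImplicit false
set_option linter.style.haveILetI false
set_option linter.unusedSectionVars false
set_option backward.isDefEq.respectTransparency false
set_option backward.isDefEq.respectTransparency.types false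
set_option maxHeartbeats 1000000

universe u

open CategoryTheory CategoryTheory.Limits MonoidalCategory CochainComplex
attribute [local instance] HasDerivedCategory.standard

noncomputable section

namespace Groth.Agent.H28.Tor3

open Groth.Agent Groth.Agent.H9Misc Groth.Agent.H9Misc.TorBalance Groth.Agent.H9Misc.DRingLTensor Groth.Agent.KFlatLib

variable {A : Type u} [CommRing A]

local notation "K(" fs ", " M ")" => CohIII.koszulCx M fs

/-- Isomorphic in the derived category. -/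
def QEq (K L : DRing.Cx A) : Prop := Nonempty (DerivedCategory.Q.obj K ≅ DerivedCategory.Q.obj L)

theorem QEq.of_iso {K L : DRing.Cx A} (e : K ≅ L) : QEq K L := ⟨DerivedCategory.Q.mapIso e⟩

theorem QEq.of_quasiIso {K L : DRing.Cx A} (π : K ⟶ L) [QuasiIso π] : QEq K L := ⟨asIso (DerivedCategory.Q.map π)⟩

theorem QEq.symm {K L : DRing.Cx A} : QEq K L → QEq L K := fun ⟨e⟩ => ⟨e.symm⟩

theorem QEq.trans {K L M : DRing.Cx A} : QEq K L → QEq L M → QEq K M := fun ⟨e⟩ ⟨e'⟩ => ⟨e ≪≫ e'⟩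

theorem QEq.homology {K L : DRing.Cx A} : QEq K L → ∀ n : ℤ, Nonempty (K.homology n ≅ L.homology n) := fun ⟨e⟩ n =>
  ⟨((DerivedCategory.homologyFunctorFactors (ModuleCat.{u} A) n).app K).symm ≪≫
    (DerivedCategory.homologyFunctor (ModuleCat.{u} A) n).mapIso e ≪≫
    (DerivedCategory.homologyFunctorFactors (ModuleCat.{u} A) n).app L⟩

/-- Tensoring with a K-flat complex preserves isomorphism in the derived category. -/
theorem QEq.tensorLeft {X : DRing.Cx A} (hX : IsKF X) {K L : DRing.Cx A} (h : QEq K L) : QEq (X ⊗ K) (X ⊗ L) := by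
  let F : DRing.Cx A ⥤ Dual.D A := (T (A := A)).obj X ⋙ DerivedCategory.Q
  let W := HomologicalComplex.quasiIso (ModuleCat.{u} A) (ComplexShape.up ℤ)
  have hF : W.IsInvertedBy F := fun P Q f hf => by
    haveI : QuasiIso f := hf
    haveI := hX.quasiIso_map' curriedTensorFlipIso f
    show IsIso (DerivedCategory.Q.map (((T (A := A)).obj X).map f))
    infer_instance
  obtain ⟨e⟩ := h
  let G := Localization.lift F hF DerivedCategory.Q
  let fac := Localization.fac F hF DerivedCategory.Q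
  exact ⟨(fac.app K).symm ≪≫ G.mapIso e ≪≫ fac.app L⟩

/-- Exchanging the first two of three factors. -/
def swap₃ (a b c : DRing.Cx A) : a ⊗ (b ⊗ c) ≅ b ⊗ (a ⊗ c) :=
  (α_ a b c).symm ≪≫ whiskerRightIso (DTen.braidCx a b) c ≪≫ α_ b a c

theorem isKF_koszul (f : List A) : IsKF (Koszul.koszul A f) :=
  kFlat_of_termwiseFlat (H23.KoszulTor.termwiseFlat_koszul f) (TorExt.vanishesAbove_koszul f)

/-- Permuted sequences have isomorphic Koszul complexes. -/
theorem nonempty_perm {l l' : List A} (h : l.Perm l') : Nonempty (Koszul.koszul A l ≅ Koszul.koszul A l') := by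
  induction h with
  | nil => exact ⟨Iso.refl _⟩
  | @cons x l₁ l₂ _ ih =>
    obtain ⟨e⟩ := ih
    obtain ⟨a⟩ := S15828.result A [x] l₁
    obtain ⟨b⟩ := S15828.result A [x] l₂
    exact ⟨a.symm ≪≫ whiskerLeftIso (C := DRing.Cx A) (Koszul.koszul A [x]) e ≪≫ b⟩
  | @swap x y l =>
    obtain ⟨s⟩ := TorExt.nonempty_swap [y] [x]
    obtain ⟨a⟩ := S15828.result A ([y] ++ [x]) l
    obtain ⟨b⟩ := S15828.result A ([x] ++ [y]) l
    exact ⟨a.symm ≪≫ whiskerRightIso (C := DRing.Cx A) s (Koszul.koszul A l) ≪≫ b⟩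
  | trans _ _ ih₁ ih₂ =>
    obtain ⟨e⟩ := ih₁
    obtain ⟨e'⟩ := ih₂
    exact ⟨e ≪≫ e'⟩

/-- A Koszul complex exact outside degree zero is its top cohomology in the derived category. -/
theorem qeq_koszul (R : ModuleCat.{u} A) (f : List A) (hq : ∀ q : ℤ, q ≠ 0 → IsZero (K(f, R).homology q))
    (N : ModuleCat.{u} A) (e : (R ⧸ (Ideal.ofList f • ⊤ : Submodule A R)) ≃ₗ[A] N) :
    QEq (Koszul.koszul A f ⊗ sgl R) (sgl N) := by
  obtain ⟨c⟩ := GrLib8.KChi.nonempty_tensor_iso R f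
  obtain ⟨t⟩ := Koszul15.nonempty_top_equiv f R
  obtain ⟨π, hπ⟩ := H23.KoszulTor.exists_quasiIso_single K(f, R) (fun j hj => Koszul15.isZero_X R f j (Or.inl hj))
    hq (t.toModuleIso ≪≫ e.toModuleIso)
  haveI := hπ
  exact (QEq.of_iso ((sglRightIso R).app (Koszul.koszul A f) ≪≫ c)).trans (QEq.of_quasiIso π)

theorem iso_tensor_koszul (R : ModuleCat.{u} A) (f : List A) :
    Nonempty (Koszul.koszul A f ⊗ sgl R ≅ K(f, R)) := by
  obtain ⟨c⟩ := GrLib8.KChi.nonempty_tensor_iso R f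
  exact ⟨(sglRightIso R).app (Koszul.koszul A f) ≪≫ c⟩

variable (R : ModuleCat.{u} A) [Module.Flat A R]

instance preservesHomology_tensorRight : (tensorRight R).PreservesHomology :=
  Functor.preservesHomology_of_map_exact _ fun S hS => by
    rw [ShortComplex.moduleCat_exact_iff] at hS
    rw [ShortComplex.moduleCat_exact_iff]
    intro x hx
    have hex : Function.Exact S.f.hom S.g.hom := fun y => ⟨fun hy => hS y hy, fun ⟨z, hz⟩ => hz ▸ S.moduleCat_zero_apply z⟩
    exact ((Module.Flat.rTensor_exact (M := R) hex) x).1 hx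

/-- Tensoring a resolution with a flat module resolves the tensor product. -/
theorem qeq_tensor_single {M : ModuleCat.{u} A} (X : DRing.Cx A) (π : X ⟶ sgl M) [QuasiIso π] :
    QEq (X ⊗ sgl R) (sgl (M ⊗ R)) :=
  ((QEq.of_iso ((sglRightIso R).app X)).trans (QEq.of_quasiIso ((tensC R).map π))).trans
    (QEq.of_iso ((HomologicalComplex.singleMapHomologicalComplex (tensorRight R) (ComplexShape.up ℤ) 0).app M))

/-- Homology commutes with a flat tensor factor. -/
def homologyTensorIso (K : DRing.Cx A) (n : ℤ) : K.homology n ⊗ R ≅ (K ⊗ sgl R).homology n :=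
  ((K.sc n).mapHomologyIso (tensorRight R)).symm ≪≫
    ((HomologicalComplex.homologyFunctor (ModuleCat.{u} A) (ComplexShape.up ℤ) n).mapIso
      ((sglRightIso R).app K)).symm

/-- The triple derived tensor product after a flat base change in which three modules are resolved by Koszul
complexes. -/
theorem nonempty_HD_tensor [DTen.HasLTen₃ A] (M₁ M₂ M₃ : ModuleCat.{u} A) (f₁ f₂ f₃ : List A)
    (h₁ : ∀ q : ℤ, q ≠ 0 → IsZero (K(f₁, R).homology q))
    (h₂ : ∀ q : ℤ, q ≠ 0 → IsZero (K(f₂, R).homology q))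
    (h₃ : ∀ q : ℤ, q ≠ 0 → IsZero (K(f₃, R).homology q))
    (e₁ : (R ⧸ (Ideal.ofList f₁ • ⊤ : Submodule A R)) ≃ₗ[A] (M₁ ⊗ R : ModuleCat.{u} A))
    (e₂ : (R ⧸ (Ideal.ofList f₂ • ⊤ : Submodule A R)) ≃ₗ[A] (M₂ ⊗ R : ModuleCat.{u} A))
    (e₃ : (R ⧸ (Ideal.ofList f₃ • ⊤ : Submodule A R)) ≃ₗ[A] (M₃ ⊗ R : ModuleCat.{u} A)) (n : ℤ) :
    Nonempty ((DerivedCategory.homologyFunctor (ModuleCat.{u} A) n).obj ((DTen.LTen₃ A).obj
        ((DerivedCategory.singleFunctor (ModuleCat.{u} A) 0).obj M₁,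
          ((DerivedCategory.singleFunctor (ModuleCat.{u} A) 0).obj M₂,
            (DerivedCategory.singleFunctor (ModuleCat.{u} A) 0).obj M₃))) ⊗ R ≅
      K(f₃ ++ (f₂ ++ f₁), R).homology n) := by
  let P₁ := ProjectiveResolution.of M₁
  let P₂ := ProjectiveResolution.of M₂
  let X := P₁.cochainComplex
  let Y := P₂.cochainComplex
  let Z := sgl M₃
  let K₁ := Koszul.koszul A f₁
  let K₂ := Koszul.koszul A f₂
  let K₃ := Koszul.koszul A f₃
  let S := sgl R
  have hX : IsKF X := isKF_cochainComplex P₁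
  have hY : IsKF Y := isKF_cochainComplex P₂
  let s : ∀ M : ModuleCat.{u} A, DerivedCategory.Q.obj (sgl M) ≅
      (DerivedCategory.singleFunctor (ModuleCat.{u} A) 0).obj M := fun M =>
    ((DerivedCategory.singleFunctorIsoCompQ (ModuleCat.{u} A) 0).app M).symm
  let eX : (DTen.QQQ A).obj (X, (Y, Z)) ≅ ((DerivedCategory.singleFunctor (ModuleCat.{u} A) 0).obj M₁,
      ((DerivedCategory.singleFunctor (ModuleCat.{u} A) 0).obj M₂,
        (DerivedCategory.singleFunctor (ModuleCat.{u} A) 0).obj M₃)) :=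
    Iso.prod (asIso (DerivedCategory.Q.map P₁.π') ≪≫ s M₁)
      (Iso.prod (asIso (DerivedCategory.Q.map P₂.π') ≪≫ s M₂) (s M₃))
  haveI : IsIso ((DTen.ε₃ A).app (X, (Y, Z))) :=
    (tenRes₃ A).isIso_totalLeftDerivedCounit (DTen.QQQ A) (X := (X, (Y, Z))) ⟨hX, hY⟩
  let eH : (DerivedCategory.homologyFunctor (ModuleCat.{u} A) n).obj ((DTen.LTen₃ A).obj
        ((DerivedCategory.singleFunctor (ModuleCat.{u} A) 0).obj M₁,
          ((DerivedCategory.singleFunctor (ModuleCat.{u} A) 0).obj M₂,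
            (DerivedCategory.singleFunctor (ModuleCat.{u} A) 0).obj M₃))) ≅ (X ⊗ (Y ⊗ Z)).homology n :=
    (DerivedCategory.homologyFunctor (ModuleCat.{u} A) n).mapIso
      (((DTen.LTen₃ A).mapIso eX).symm ≪≫ asIso ((DTen.ε₃ A).app (X, (Y, Z)))) ≪≫
    (DerivedCategory.homologyFunctorFactors (ModuleCat.{u} A) n).app (X ⊗ (Y ⊗ Z))
  have hZS : QEq (Z ⊗ S) (K₃ ⊗ S) :=
    (qeq_tensor_single R Z (𝟙 Z)).trans (qeq_koszul R f₃ h₃ _ e₃).symm
  have hYS : QEq (Y ⊗ S) (K₂ ⊗ S) := (qeq_tensor_single R Y P₂.π').trans (qeq_koszul R f₂ h₂ _ e₂).symm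
  have hXS : QEq (X ⊗ S) (K₁ ⊗ S) := (qeq_tensor_single R X P₁.π').trans (qeq_koszul R f₁ h₁ _ e₁).symm
  obtain ⟨a⟩ := S15828.result A f₂ f₁
  obtain ⟨b⟩ := S15828.result A f₃ (f₂ ++ f₁)
  have hfin : QEq ((X ⊗ (Y ⊗ Z)) ⊗ S) (Koszul.koszul A (f₃ ++ (f₂ ++ f₁)) ⊗ S) :=
    ((QEq.of_iso (α_ X (Y ⊗ Z) S ≪≫ whiskerLeftIso X (α_ Y Z S))).trans
      (((hZS.tensorLeft hY).trans (QEq.of_iso (swap₃ Y K₃ S))).trans (hYS.tensorLeft (isKF_koszul f₃)) |>.tensorLeft hX)).trans
    ((QEq.of_iso (swap₃ X K₃ (K₂ ⊗ S) ≪≫ whiskerLeftIso K₃ (swap₃ X K₂ S))).trans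
      (((hXS.tensorLeft (isKF_koszul f₂)).tensorLeft (isKF_koszul f₃)).trans
        (QEq.of_iso (whiskerLeftIso K₃ (α_ K₂ K₁ S).symm ≪≫ (α_ K₃ (K₂ ⊗ K₁) S).symm ≪≫
          whiskerRightIso (whiskerLeftIso K₃ a ≪≫ b) S))))
  obtain ⟨h⟩ := hfin.homology n
  obtain ⟨c⟩ := iso_tensor_koszul R (f₃ ++ (f₂ ++ f₁))
  exact ⟨whiskerRightIso eH R ≪≫ homologyTensorIso R _ n ≪≫ h ≪≫
    (HomologicalComplex.homologyFunctor (ModuleCat.{u} A) (ComplexShape.up ℤ) n).mapIso c⟩

/-- Koszul cohomology of a sequence whose tail is exact and whose head kills the top cohomology of the tail. -/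
theorem nonempty_H_append (r g : List A) (hg : ∀ q : ℤ, q ≠ 0 → IsZero (K(g, R).homology q))
    (hkill : ∀ x ∈ r, ∀ z : R, x • z ∈ (Ideal.ofList g • ⊤ : Submodule A R)) (q : ℤ) :
    Nonempty (K(r ++ g, R).homology q ≅
      ModuleCat.of A (Fin (TorExt.betti r.length q) → R ⧸ (Ideal.ofList g • ⊤ : Submodule A R))) := by
  let B := R ⧸ (Ideal.ofList g • ⊤ : Submodule A R)
  let N : ModuleCat.{u} A := ModuleCat.of A B
  obtain ⟨a⟩ := S15828.result A r g
  obtain ⟨c⟩ := iso_tensor_koszul R (r ++ g)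
  obtain ⟨d⟩ := iso_tensor_koszul N r
  have h : QEq K(r ++ g, R) K(r, N) :=
    ((QEq.of_iso (c.symm ≪≫ whiskerRightIso (C := DRing.Cx A) a.symm (sgl R) ≪≫ α_ _ _ _)).trans
      ((qeq_koszul R g hg N (LinearEquiv.refl A B)).tensorLeft (isKF_koszul r))).trans (QEq.of_iso d)
  obtain ⟨e⟩ := h.homology q
  obtain ⟨e'⟩ := TorExt.nonempty_H N [] B
    ⟨HomologicalComplex.singleObjHomologySelfIso (ComplexShape.up ℤ) 0 N⟩
    (fun i hi => HomologicalComplex.isZero_single_obj_homology (ComplexShape.up ℤ) 0 N i hi) r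
    (fun x hx => ModuleCat.hom_ext (LinearMap.ext fun (z : B) => by
      obtain ⟨z, rfl⟩ := Submodule.mkQ_surjective _ z
      exact (map_smul (Submodule.mkQ _) x z).symm.trans ((Submodule.Quotient.mk_eq_zero _).2 (hkill x hx z)))) q
  exact ⟨e ≪≫ eqToIso (by rw [List.append_nil]) ≪≫ e'⟩

end Groth.Agent.H28.Tor3
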