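import Groth.Agent.H28.Tor3.Seq
import Groth.Agent.H28.Tor3.Cx
import Groth.Agent.H28.Tor3.Alg
import Groth.Prelude.Def_DTen2

/-!
# The triple Tor of three quotients with regular intersection, prime by prime
-/

set_option autoImplicit false
set_option linter.style.haveILetI false
set_option backward.isDefEq.respectTransparency false
set_option backward.isDefEq.respectTransparency.types false
set_option maxHeartbeats 1000000

universe u

open CategoryTheory CategoryTheory.Limits MonoidalCategory TensorProduct RingTheory.Sequence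
attribute [local instance] HasDerivedCategory.standard

noncomputable section

namespace Groth.Agent.H28.Tor3

open Groth.Agent

variable {A : Type u} [CommRing A] (p : Ideal A) [p.IsPrime]

local notation "Rp" => Localization.AtPrime p

theorem exists_mem_of_algebraMap_mem {I : Ideal A} {a : A} (h : algebraMap A Rp a ∈ I.map (algebraMap A Rp)) :
    ∃ s ∈ p.primeCompl, s * a ∈ I :=
  (IsLocalization.algebraMap_mem_map_algebraMap_iff p.primeCompl Rp I a).1 h

/-- Generators of an ideal near a prime forming a regular sequence in the local ring. -/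
theorem exists_local_gens [IsNoetherianRing A] [IsRegularLocalRing Rp] (I : Ideal A) [IsRegularRing (A ⧸ I)] :
    ∃ (n : ℕ) (f : Fin n → I), Ideal.span (Set.range fun x => algebraMap A Rp (f x : A)) = I.map (algebraMap A Rp) ∧
      IsWeaklyRegular Rp (List.ofFn fun x => algebraMap A Rp (f x : A)) := by
  obtain ⟨G, hG⟩ := IsNoetherian.noetherian I
  let v : {x // x ∈ G} → Rp := fun x => algebraMap A Rp x.1
  have hv : Ideal.span (Set.range v) = I.map (algebraMap A Rp) := by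
    conv_rhs => rw [← hG]
    show _ = Ideal.map _ (Ideal.span (G : Set A))
    rw [Ideal.map_span, show v = algebraMap A Rp ∘ Subtype.val from rfl, Set.range_comp, Subtype.range_coe]
  obtain ⟨l, -, hspan, hreg⟩ := exists_sublist_regular _ (eq_top_or_isRegularLocalRing p I) v hv
  let f : Fin l.length → I := fun x => ⟨l[(x : ℕ)].1, hG ▸ Submodule.subset_span l[(x : ℕ)].2⟩
  have he : (List.ofFn fun x => algebraMap A Rp (f x : A)) = l.map v := List.ofFn_getElem_eq_map l v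
  refine ⟨l.length, f, ?_, he ▸ hreg⟩
  rw [← hspan, ← he]
  exact congrArg Ideal.span (Set.ext fun y => List.mem_ofFn.symm)

/-- The A-submodule `(f) • ⊤` of the local ring for local generators. -/
theorem ofList_smul_top (I : Ideal A) (g : List A) (h : Ideal.ofList (g.map (algebraMap A Rp)) = I.map (algebraMap A Rp)) :
    (Ideal.ofList g • ⊤ : Submodule A Rp) = I • ⊤ := by
  rw [Ideal.smul_top_eq_map, Ideal.smul_top_eq_map, Ideal.map_ofList, h]

theorem koszul_data {I : Ideal A} {n : ℕ} (f : Fin n → I)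
    (hs : Ideal.span (Set.range fun x => algebraMap A Rp (f x : A)) = I.map (algebraMap A Rp))
    (hr : IsWeaklyRegular Rp (List.ofFn fun x => algebraMap A Rp (f x : A))) :
    (∀ i : ℤ, i ≠ 0 → IsZero ((CohIII.koszulCx (ModuleCat.of A Rp) (List.ofFn fun x => (f x : A))).homology i)) ∧
      Nonempty ((Rp ⧸ (Ideal.ofList (List.ofFn fun x => (f x : A)) • ⊤ : Submodule A Rp)) ≃ₗ[A]
        (ModuleCat.of A (A ⧸ I) ⊗ ModuleCat.of A Rp : ModuleCat.{u} A)) := by
  let al := algebraMap A Rp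
  have hm : (List.ofFn fun x => (f x : A)).map al = List.ofFn fun x => al (f x : A) := List.map_ofFn
  refine ⟨Koszul15.isZero_homology_of_isWeaklyRegular _ (ModuleCat.of A Rp)
    ((isWeaklyRegular_map_algebraMap_iff Rp Rp _).1 (hm.symm ▸ hr)), ?_⟩
  have h := ofList_smul_top p I (List.ofFn fun x => (f x : A)) (by
    rw [hm, ← hs]
    exact congrArg Ideal.span (Set.ext fun y => List.mem_ofFn))
  exact ⟨(Submodule.quotEquivOfEq _ _ h).trans (TensorProduct.quotTensorEquivQuotSMul Rp I).symm⟩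

theorem exists_smul_eq_sum {I : Ideal A} {n : ℕ} (f : Fin n → I)
    (hs : Ideal.span (Set.range fun x => algebraMap A Rp (f x : A)) = I.map (algebraMap A Rp)) (y : I) :
    ∃ s ∈ p.primeCompl, ∃ a : Fin n → A, s • y = ∑ x, a x • f x := by
  let al := algebraMap A Rp
  have hy : al (y : A) ∈ (Ideal.span (Set.range fun x => (f x : A))).map al := by
    rw [Ideal.map_span, ← Set.range_comp]
    exact hs.symm ▸ Ideal.mem_map_of_mem al y.2
  obtain ⟨s, hs', hsy⟩ := exists_mem_of_algebraMap_mem p hy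
  obtain ⟨a, ha⟩ := Ideal.mem_span_range_iff_exists_fun.1 hsy
  exact ⟨s, hs', a, Subtype.ext (by simp [ha])⟩

theorem mem_of_sum_mem_smul {I J : Ideal A} {n : ℕ} (f : Fin n → I)
    (hs : Ideal.span (Set.range fun x => algebraMap A Rp (f x : A)) = I.map (algebraMap A Rp)) (hle : I ≤ J)
    (hr : IsWeaklyRegular Rp (List.ofFn fun x => algebraMap A Rp (f x : A)))
    (a : Fin n → A) (ha : (∑ x, a x • f x) ∈ J • (⊤ : Submodule A I)) (x : Fin n) :
    ∃ s ∈ p.primeCompl, s * a x ∈ J := by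
  let al := algebraMap A Rp
  refine exists_mem_of_algebraMap_mem p (mem_of_sum_mem_mul _ hr (J.map al)
    (fun i => Ideal.mem_map_of_mem al (hle (f i).2)) (fun i => al (a i)) ?_ x)
  rw [hs, ← Ideal.map_mul]
  have h := Ideal.mem_map_of_mem al (coe_mem_mul_of_mem_smul J I _ ha)
  simpa using h

section Family

variable {J₁ J₂ J₃ J : Ideal A} {n₁ n₂ n₃ : ℕ} (f₁ : Fin n₁ → J₁) (f₂ : Fin n₂ → J₂) (f₃ : Fin n₃ → J₃)

/-- The combined family of generators. -/
def fam : Fin n₃ ⊕ (Fin n₂ ⊕ Fin n₁) → J₁ × (J₂ × J₃) :=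
  Sum.elim (fun x => (0, (0, f₃ x))) (Sum.elim (fun x => (0, (f₂ x, 0))) fun x => (f₁ x, (0, 0)))

theorem coe_map_fam (T : (↥J₁ × (↥J₂ × ↥J₃)) →ₗ[A] ↥J)
    (hT : ∀ x, (T x : A) = (x.1 : A) + (x.2.1 : A) + (x.2.2 : A)) :
    (fun i => (T (fam f₁ f₂ f₃ i) : A)) =
      Sum.elim (fun x => (f₃ x : A)) (Sum.elim (fun x => (f₂ x : A)) fun x => (f₁ x : A)) := by
  funext i
  rcases i with x | x | x <;> simp [fam, hT]

theorem sum_smul_fam (α : Fin n₃ ⊕ (Fin n₂ ⊕ Fin n₁) → A) :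
    ∑ i, α i • fam f₁ f₂ f₃ i = (∑ x, α (Sum.inr (Sum.inr x)) • f₁ x,
      (∑ x, α (Sum.inr (Sum.inl x)) • f₂ x, ∑ x, α (Sum.inl x) • f₃ x)) := by
  simp [fam, Fintype.sum_sum_type, Prod.ext_iff, Prod.fst_sum, Prod.snd_sum]

theorem target [IsNoetherianRing A] (hJ : J = J₁ ⊔ J₂ ⊔ J₃) (T : (↥J₁ × (↥J₂ × ↥J₃)) →ₗ[A] ↥J)
    (hs₁ : Ideal.span (Set.range fun x => algebraMap A Rp (f₁ x : A)) = J₁.map (algebraMap A Rp))
    (hs₂ : Ideal.span (Set.range fun x => algebraMap A Rp (f₂ x : A)) = J₂.map (algebraMap A Rp))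
    (hs₃ : Ideal.span (Set.range fun x => algebraMap A Rp (f₃ x : A)) = J₃.map (algebraMap A Rp))
    (hr₁ : IsWeaklyRegular Rp (List.ofFn fun x => algebraMap A Rp (f₁ x : A)))
    (hr₂ : IsWeaklyRegular Rp (List.ofFn fun x => algebraMap A Rp (f₂ x : A)))
    (hr₃ : IsWeaklyRegular Rp (List.ofFn fun x => algebraMap A Rp (f₃ x : A)))
    (r l : List (Fin n₃ ⊕ (Fin n₂ ⊕ Fin n₁))) (hrnd : r.Nodup) (hl : l.Nodup) (hmem : ∀ i, i ∈ r ↔ i ∉ l)
    (hlspan : Ideal.ofList (l.map fun i => algebraMap A Rp (T (fam f₁ f₂ f₃ i) : A)) = J.map (algebraMap A Rp))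
    (hlreg : IsWeaklyRegular Rp (l.map fun i => algebraMap A Rp (T (fam f₁ f₂ f₃ i) : A))) (q : ℕ) :
    Nonempty (LocalizedModule p.primeCompl (Fin (r.length.choose q) → A ⧸ J) ≃ₗ[A]
      LocalizedModule p.primeCompl
        (RestrictScalars A (A ⧸ J) ↥(⋀[A ⧸ J]^q ↥(LinearMap.ker (T.baseChange (A ⧸ J)))))) := by
  classical
  let al := algebraMap A Rp
  let ι := Fin n₃ ⊕ (Fin n₂ ⊕ Fin n₁)
  let val : ι → A := fun i => (T (fam f₁ f₂ f₃ i) : A)
  have hgmap : Ideal.ofList ((l.map val).map al) = J.map al := by rw [List.map_map]; exact hlspan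
  let B := A ⧸ J
  let σ : Fin r.length ⊕ Fin l.length → ι := Sum.elim r.get l.get
  have hσ : Function.Bijective σ := by
    refine ⟨Function.Injective.sumElim hrnd.injective_get hl.injective_get fun a b h =>
      (hmem _).1 (List.get_mem r a) (h ▸ List.get_mem l b), fun i => ?_⟩
    by_cases hi : i ∈ l
    · obtain ⟨j, hj⟩ := List.mem_iff_get.1 hi
      exact ⟨Sum.inr j, hj⟩
    · obtain ⟨j, hj⟩ := List.mem_iff_get.1 ((hmem i).2 hi)
      exact ⟨Sum.inl j, hj⟩
  let se := Equiv.ofBijective σ hσ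
  have hsum : ∀ α : ι → A, ∑ i, α i • fam f₁ f₂ f₃ i =
      ∑ x, α (r.get x) • fam f₁ f₂ f₃ (r.get x) + ∑ j, α (l.get j) • fam f₁ f₂ f₃ (l.get j) := fun α => by
    rw [← Equiv.sum_comp se, Fintype.sum_sum_type]
    rfl
  have hspl := sum_smul_fam (A := A) f₁ f₂ f₃
  have hle₁ : J₁ ≤ J := hJ ▸ le_sup_left.trans le_sup_left
  have hle₂ : J₂ ≤ J := hJ ▸ le_sup_right.trans le_sup_left
  have hle₃ : J₃ ≤ J := hJ ▸ le_sup_right
  obtain ⟨φ, hker, hsurj⟩ := exists_presentation p.primeCompl J T (fun x => fam f₁ f₂ f₃ (r.get x)) (fun j => fam f₁ f₂ f₃ (l.get j))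
    (fun y => by
      obtain ⟨s₁, hs₁', a₁, ha₁⟩ := exists_smul_eq_sum p f₁ hs₁ y.1
      obtain ⟨s₂, hs₂', a₂, ha₂⟩ := exists_smul_eq_sum p f₂ hs₂ y.2.1
      obtain ⟨s₃, hs₃', a₃, ha₃⟩ := exists_smul_eq_sum p f₃ hs₃ y.2.2
      let α : (Fin n₃ ⊕ (Fin n₂ ⊕ Fin n₁)) → A := Sum.elim (fun x => s₁ * s₂ * a₃ x)
        (Sum.elim (fun x => s₁ * s₃ * a₂ x) fun x => s₂ * s₃ * a₁ x)
      refine ⟨s₁ * s₂ * s₃, mul_mem (mul_mem hs₁' hs₂') hs₃', fun x => α (r.get x), fun j => α (l.get j), ?_⟩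
      rw [← hsum, hspl]
      refine Prod.ext ?_ (Prod.ext ?_ ?_)
      · show (s₁ * s₂ * s₃) • y.1 = ∑ x, (s₂ * s₃ * a₁ x) • f₁ x
        rw [show s₁ * s₂ * s₃ = s₂ * s₃ * s₁ from by ring, mul_smul, ha₁, Finset.smul_sum]
        simp only [smul_smul]
      · show (s₁ * s₂ * s₃) • y.2.1 = ∑ x, (s₁ * s₃ * a₂ x) • f₂ x
        rw [show s₁ * s₂ * s₃ = s₁ * s₃ * s₂ from by ring, mul_smul, ha₂, Finset.smul_sum]
        simp only [smul_smul]
      · show (s₁ * s₂ * s₃) • y.2.2 = ∑ x, (s₁ * s₂ * a₃ x) • f₃ x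
        rw [show s₁ * s₂ * s₃ = s₁ * s₂ * s₃ from by ring, mul_smul, ha₃, Finset.smul_sum]
        simp only [smul_smul])
    (fun a b h x => by
      let α : (Fin n₃ ⊕ (Fin n₂ ⊕ Fin n₁)) → A := Sum.elim a b ∘ se.symm
      have hα : ∀ z, α (σ z) = Sum.elim a b z := fun z => congrArg (Sum.elim a b) (se.symm_apply_apply z)
      have h' : ∑ i, α i • fam f₁ f₂ f₃ i ∈ J • (⊤ : Submodule A (J₁ × (J₂ × J₃))) := by
        rw [hsum]
        simp only [show ∀ x, α (r.get x) = a x from fun x => hα (Sum.inl x),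
          show ∀ j, α (l.get j) = b j from fun j => hα (Sum.inr j)]
        exact h
      have hfst : ∀ {N : Type u} [AddCommGroup N] [Module A N] (π : (J₁ × (J₂ × J₃)) →ₗ[A] N),
          π (∑ i, α i • fam f₁ f₂ f₃ i) ∈ J • (⊤ : Submodule A N) := fun π => by
        have h2 := Submodule.mem_map_of_mem (f := π) h'
        rw [Submodule.map_smul''] at h2
        exact Submodule.smul_mono le_rfl le_top h2
      rw [← show α (r.get x) = a x from hα (Sum.inl x)]
      have k₁ := hfst (LinearMap.fst A J₁ (J₂ × J₃))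
      have k₂ := hfst (LinearMap.fst A J₂ J₃ ∘ₗ LinearMap.snd A J₁ (J₂ × J₃))
      have k₃ := hfst (LinearMap.snd A J₂ J₃ ∘ₗ LinearMap.snd A J₁ (J₂ × J₃))
      rw [hspl] at k₁ k₂ k₃
      generalize r.get x = i
      rcases i with i | i | i
      · exact mem_of_sum_mem_smul p f₃ hs₃ hle₃ hr₃ (fun y => α (Sum.inl y)) k₃ i
      · exact mem_of_sum_mem_smul p f₂ hs₂ hle₂ hr₂ (fun y => α (Sum.inr (Sum.inl y))) k₂ i
      · exact mem_of_sum_mem_smul p f₁ hs₁ hle₁ hr₁ (fun y => α (Sum.inr (Sum.inr y))) k₁ i)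
    (fun x => by
      have h : al (val (r.get x)) ∈ (Ideal.span (Set.range fun j => val (l.get j))).map al := by
        rw [show Set.range (fun j => val (l.get j)) = {a | a ∈ l.map val} from Set.ext fun a => by
          exact ⟨fun ⟨j, h⟩ => List.mem_map.2 ⟨l.get j, List.get_mem l j, h⟩, fun h => by
            obtain ⟨i, hi, h⟩ := List.mem_map.1 h
            obtain ⟨j, hj⟩ := List.mem_iff_get.1 hi
            exact ⟨j, by rw [← h, ← hj]⟩⟩]
        show _ ∈ Ideal.map al (Ideal.ofList (l.map val))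
        rw [Ideal.map_ofList, hgmap]
        exact Ideal.mem_map_of_mem al (T (fam f₁ f₂ f₃ (r.get x))).2
      obtain ⟨s, hs, hsx⟩ := exists_mem_of_algebraMap_mem p h
      obtain ⟨b, hb⟩ := Ideal.mem_span_range_iff_exists_fun.1 hsx
      exact ⟨s, hs, b, Subtype.ext (by simpa [val] using hb.symm)⟩)
    (fun b hb j => by
      refine exists_mem_of_algebraMap_mem p (mem_of_sum_mem_mul (fun j => al (val (l.get j))) ?_ (J.map al)
        (fun i => Ideal.mem_map_of_mem al (T (fam f₁ f₂ f₃ (l.get i))).2) (fun i => al (b i)) ?_ j)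
      · exact (List.ofFn_getElem_eq_map l (fun i => al (val i))).symm ▸ hlreg
      · have hsp : Ideal.span (Set.range fun j => al (val (l.get j))) = J.map al := by
          rw [← hlspan, ← List.ofFn_getElem_eq_map l (fun i => al (val i))]
          exact congrArg Ideal.span (Set.ext fun y => List.mem_ofFn.symm)
        rw [hsp, ← Ideal.map_mul]
        have h := Ideal.mem_map_of_mem al hb
        simpa [val] using h)
  haveI : IsNoetherianRing B := inferInstance
  haveI : Module.Finite B (B ⊗[A] (J₁ × (J₂ × J₃))) := by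
    haveI : Module.Finite A J₁ := Module.Finite.iff_fg.2 (IsNoetherian.noetherian J₁)
    haveI : Module.Finite A J₂ := Module.Finite.iff_fg.2 (IsNoetherian.noetherian J₂)
    haveI : Module.Finite A J₃ := Module.Finite.iff_fg.2 (IsNoetherian.noetherian J₃)
    infer_instance
  haveI : Module.Finite B ↥(LinearMap.ker (T.baseChange B)) := Module.IsNoetherian.finite B _
  exact nonempty_localized_extPow (A := A) (B := B) (K := ↥(LinearMap.ker (T.baseChange B))) p.primeCompl r.length q φ hker hsurj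

end Family

theorem source [DTen.HasLTen₃ A] {J₁ J₂ J₃ : Ideal A} {n₁ n₂ n₃ : ℕ}
    (f₁ : Fin n₁ → J₁) (f₂ : Fin n₂ → J₂) (f₃ : Fin n₃ → J₃)
    (hs₁ : Ideal.span (Set.range fun x => algebraMap A Rp (f₁ x : A)) = J₁.map (algebraMap A Rp))
    (hs₂ : Ideal.span (Set.range fun x => algebraMap A Rp (f₂ x : A)) = J₂.map (algebraMap A Rp))
    (hs₃ : Ideal.span (Set.range fun x => algebraMap A Rp (f₃ x : A)) = J₃.map (algebraMap A Rp))
    (hr₁ : IsWeaklyRegular Rp (List.ofFn fun x => algebraMap A Rp (f₁ x : A)))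
    (hr₂ : IsWeaklyRegular Rp (List.ofFn fun x => algebraMap A Rp (f₂ x : A)))
    (hr₃ : IsWeaklyRegular Rp (List.ofFn fun x => algebraMap A Rp (f₃ x : A))) (n : ℤ) :
    Nonempty (LocalizedModule p.primeCompl (Dual.HD A ((DTen.LTen₃ A).obj
        (Dual.inD A (A ⧸ J₁), (Dual.inD A (A ⧸ J₂), Dual.inD A (A ⧸ J₃)))) n) ≃ₗ[A]
      ((CohIII.koszulCx (ModuleCat.of A Rp) ((List.ofFn fun x => (f₃ x : A)) ++
        ((List.ofFn fun x => (f₂ x : A)) ++ (List.ofFn fun x => (f₁ x : A))))).homology n : ModuleCat.{u} A)) := by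
  haveI : Module.Flat A Rp := IsLocalization.flat Rp p.primeCompl
  let R : ModuleCat.{u} A := ModuleCat.of A Rp
  haveI : Module.Flat A R := ‹Module.Flat A Rp›
  obtain ⟨hz₁, ⟨e₁⟩⟩ := koszul_data p f₁ hs₁ hr₁
  obtain ⟨hz₂, ⟨e₂⟩⟩ := koszul_data p f₂ hs₂ hr₂
  obtain ⟨hz₃, ⟨e₃⟩⟩ := koszul_data p f₃ hs₃ hr₃
  obtain ⟨eC⟩ := nonempty_HD_tensor R (ModuleCat.of A (A ⧸ J₁)) (ModuleCat.of A (A ⧸ J₂)) (ModuleCat.of A (A ⧸ J₃))
    _ _ _ hz₁ hz₂ hz₃ e₁ e₂ e₃ n
  let H : Type u := Dual.HD A ((DTen.LTen₃ A).obj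
    (Dual.inD A (A ⧸ J₁), (Dual.inD A (A ⧸ J₂), Dual.inD A (A ⧸ J₃)))) n
  let u₁ : LocalizedModule p.primeCompl H ≃ₗ[A] H ⊗[A] Rp :=
    ((LocalizedModule.equivTensorProduct p.primeCompl H).restrictScalars A).trans (TensorProduct.comm A _ _)
  exact ⟨u₁.trans eC.toLinearEquiv⟩

theorem rearrange (J : Ideal A) (F r g : List A) (hperm : F.Perm (r ++ g)) (hrJ : ∀ x ∈ r, x ∈ J)
    (hspan : Ideal.ofList (g.map (algebraMap A Rp)) = J.map (algebraMap A Rp))
    (hreg : IsWeaklyRegular Rp (g.map (algebraMap A Rp))) (q : ℕ) :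
    Nonempty (((CohIII.koszulCx (ModuleCat.of A Rp) F).homology (-(q : ℤ)) : ModuleCat.{u} A) ≃ₗ[A]
      LocalizedModule p.primeCompl (Fin (r.length.choose q) → A ⧸ J)) := by
  haveI : Module.Flat A Rp := IsLocalization.flat Rp p.primeCompl
  let R : ModuleCat.{u} A := ModuleCat.of A Rp
  haveI : Module.Flat A R := ‹Module.Flat A Rp›
  obtain ⟨eP⟩ := nonempty_perm hperm
  have hgtop := ofList_smul_top p J g hspan
  obtain ⟨eH⟩ := nonempty_H_append R r g
    (Koszul15.isZero_homology_of_isWeaklyRegular _ R ((isWeaklyRegular_map_algebraMap_iff Rp Rp g).1 hreg))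
    (fun x hx z => by
      show x • z ∈ (Ideal.ofList g • ⊤ : Submodule A Rp)
      rw [hgtop]
      exact Submodule.smul_mem_smul (hrJ x hx) trivial) (-(q : ℤ))
  obtain ⟨ea⟩ := iso_tensor_koszul R F
  obtain ⟨eb⟩ := iso_tensor_koszul R (r ++ g)
  let eS := (HomologicalComplex.homologyFunctor (ModuleCat.{u} A) (ComplexShape.up ℤ) (-(q : ℤ))).mapIso
    (ea.symm ≪≫ whiskerRightIso eP _ ≪≫ eb) ≪≫ eH
  let n := r.length.choose q
  have hb : TorExt.betti r.length (-(q : ℤ)) = n := by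
    simp [TorExt.betti, n]
  let B := A ⧸ J
  let u₃ : (Fin (TorExt.betti r.length (-(q : ℤ))) → Rp ⧸ (Ideal.ofList g • ⊤ : Submodule A Rp)) ≃ₗ[A]
      (Fin n → Rp ⊗[A] B) :=
    (LinearEquiv.funCongrLeft A _ (finCongr hb.symm)).trans (LinearEquiv.piCongrRight fun _ =>
      (Submodule.quotEquivOfEq _ _ hgtop).trans (TensorProduct.tensorQuotEquivQuotSMul Rp J).symm)
  let u₄ : (Fin n → Rp ⊗[A] B) ≃ₗ[A] LocalizedModule p.primeCompl (Fin n → B) :=
    ((TensorProduct.piRight A A Rp (fun _ : Fin n => B)).symm).trans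
      ((LocalizedModule.equivTensorProduct p.primeCompl (Fin n → B)).restrictScalars A).symm
  exact ⟨eS.toLinearEquiv.trans (u₃.trans u₄)⟩

set_option maxHeartbeats 6000000 in
/-- The triple Tor, prime by prime. -/
theorem main [IsNoetherianRing A] [IsRegularLocalRing Rp] [DTen.HasLTen₃ A] (J₁ J₂ J₃ J : Ideal A)
    (hJ : J = J₁ ⊔ J₂ ⊔ J₃)
    [IsRegularRing (A ⧸ J₁)] [IsRegularRing (A ⧸ J₂)] [IsRegularRing (A ⧸ J₃)] [IsRegularRing (A ⧸ J)]
    (T : (↥J₁ × (↥J₂ × ↥J₃)) →ₗ[A] ↥J) (hT : ∀ x, (T x : A) = (x.1 : A) + (x.2.1 : A) + (x.2.2 : A))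
    (q : ℕ) :
    Nonempty (LocalizedModule p.primeCompl
          (Dual.HD A ((DTen.LTen₃ A).obj (Dual.inD A (A ⧸ J₁), (Dual.inD A (A ⧸ J₂), Dual.inD A (A ⧸ J₃)))) (-(q : ℤ)))
        ≃ₗ[A] LocalizedModule p.primeCompl
          (RestrictScalars A (A ⧸ J)
            ↥(⋀[A ⧸ J]^q ↥(LinearMap.ker (T.baseChange (A ⧸ J)))))) := by
  classical
  let al := algebraMap A Rp
  obtain ⟨n₁, f₁, hs₁, hr₁⟩ := exists_local_gens p J₁
  obtain ⟨n₂, f₂, hs₂, hr₂⟩ := exists_local_gens p J₂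
  obtain ⟨n₃, f₃, hs₃, hr₃⟩ := exists_local_gens p J₃
  let L₁ : List A := List.ofFn fun x => (f₁ x : A)
  let L₂ : List A := List.ofFn fun x => (f₂ x : A)
  let L₃ : List A := List.ofFn fun x => (f₃ x : A)
  obtain ⟨eC⟩ := source p f₁ f₂ f₃ hs₁ hs₂ hs₃ hr₁ hr₂ hr₃ (-(q : ℤ))
  -- the combined family
  let ι := Fin n₃ ⊕ (Fin n₂ ⊕ Fin n₁)
  let lι : List ι := (List.ofFn fun x => Sum.inl x) ++
    ((List.ofFn fun x => Sum.inr (Sum.inl x)) ++ List.ofFn fun x => Sum.inr (Sum.inr x))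
  let val : ι → A := fun i => (T (fam f₁ f₂ f₃ i) : A)
  have hval : val = Sum.elim (fun x => (f₃ x : A)) (Sum.elim (fun x => (f₂ x : A)) fun x => (f₁ x : A)) :=
    coe_map_fam f₁ f₂ f₃ T hT
  have hL : lι.map val = L₃ ++ (L₂ ++ L₁) := by
    simp [lι, hval, L₁, L₂, L₃, List.map_append, List.map_ofFn, Function.comp_def]
  have hJr : Ideal.span (Set.range fun i => al (val i)) = J.map al := by
    rw [show (fun i => al (val i)) = Sum.elim (fun x => al (f₃ x : A))
      (Sum.elim (fun x => al (f₂ x : A)) fun x => al (f₁ x : A)) from funext fun i => by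
        rcases i with x | x | x <;> simp [hval], Set.Sum.elim_range, Set.Sum.elim_range, Ideal.span_union,
      Ideal.span_union, hs₁, hs₂, hs₃, hJ, Ideal.map_sup, Ideal.map_sup]
    ac_rfl
  obtain ⟨l, hl, hlspan, hlreg⟩ := exists_sublist_regular (J.map al) (eq_top_or_isRegularLocalRing p J)
    (fun i => al (val i)) hJr
  let r : List ι := lι.filter (fun i => decide (i ∉ l))
  have hlι : ∀ i : ι, i ∈ lι := fun i => by rcases i with x | x | x <;> simp [lι]
  have hnd : lι.Nodup := by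
    simp only [lι, List.nodup_append, List.nodup_ofFn]
    simp [List.mem_ofFn, Function.Injective]
    refine ⟨fun _ _ h => Sum.inl.inj h, ⟨fun _ _ h => Sum.inl.inj (Sum.inr.inj h),
      fun _ _ h => Sum.inr.inj (Sum.inr.inj h), fun _ _ h => Sum.inl_ne_inr (Sum.inr.inj h)⟩, ?_⟩
    rintro a b (⟨i, rfl⟩ | ⟨i, rfl⟩) h <;> exact Sum.inl_ne_inr h
  have hrnd : r.Nodup := hnd.filter _
  have hmem : ∀ i, i ∈ r ↔ i ∉ l := fun i => by simp [r, hlι i]
  have hperm : lι.Perm (r ++ l) := (List.perm_ext_iff_of_nodup hnd (List.nodup_append.2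
    ⟨hrnd, hl, fun a ha b hb hab => (hmem a).1 ha (hab ▸ hb)⟩)).2 fun i => by
      simp [hlι i, hmem i, em']
  obtain ⟨eR⟩ := rearrange p J (L₃ ++ (L₂ ++ L₁)) (r.map val) (l.map val)
    (by
      rw [← hL, ← List.map_append]
      exact hperm.map val)
    (fun x hx => by
      obtain ⟨i, _, rfl⟩ := List.mem_map.1 hx
      exact (T (fam f₁ f₂ f₃ i)).2)
    (by rw [List.map_map]; exact hlspan) (by rw [List.map_map]; exact hlreg) q
  obtain ⟨eX⟩ := target p f₁ f₂ f₃ hJ T hs₁ hs₂ hs₃ hr₁ hr₂ hr₃ r l hrnd hl hmem hlspan hlreg q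
  rw [List.length_map] at eR
  exact ⟨eC.trans (eR.trans eX)⟩

end Groth.Agent.H28.Tor3
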