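import Groth.Agent.RegLoc6.Seq
import Groth.Agent.RegLoc6.Open
import Groth.Agent.S11454
import Groth.Agent.S15821
import Groth.Agent.S18939
import Groth.Agent.CotTLib.CI
import Groth.Agent.GeomReg.Basic
import Mathlib.RingTheory.Smooth.Basic

/-!
# Regular generators of ideals with regular quotient, chosen inside a given family
-/

set_option autoImplicit false
set_option backward.isDefEq.respectTransparency false
set_option backward.isDefEq.respectTransparency.types false
set_option linter.style.haveILetI false

universe u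

open RingTheory.Sequence IsLocalRing

noncomputable section

namespace Groth.Agent.H28.Tor3

variable {R : Type u} [CommRing R]

theorem ofList_map_eq {ι : Type*} (v : ι → R) (l : List ι) :
    Ideal.ofList (l.map v) = Ideal.span (v '' {i | i ∈ l}) :=
  congrArg Ideal.span (Set.ext fun x => by simp [List.mem_map])

/-- A generating family contains a generating family no longer than any given one. -/
theorem exists_sublist_card_le [IsLocalRing R] {M : Type u} [AddCommGroup M] [Module R M] [Module.Finite R M]
    {ι : Type*} (v : ι → M) (hv : Submodule.span R (Set.range v) = ⊤)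
    {c : ℕ} (w : Fin c → M) (hw : Submodule.span R (Set.range w) = ⊤) :
    ∃ l : List ι, l.Nodup ∧ l.length ≤ c ∧ Submodule.span R (v '' {i | i ∈ l}) = ⊤ := by
  classical
  let 𝔪 := maximalIdeal R
  letI : Field (R ⧸ 𝔪) := Ideal.Quotient.field 𝔪
  let V := M ⧸ (𝔪 • (⊤ : Submodule R M))
  let π : M →ₗ[R] V := Submodule.mkQ _
  have hπ : ∀ (s : Set M), Submodule.span R s = ⊤ → Submodule.span (R ⧸ 𝔪) (π '' s) = ⊤ := fun s hs => by
    refine eq_top_iff.2 fun x _ => ?_
    obtain ⟨y, rfl⟩ := Submodule.mkQ_surjective _ x
    have hy : π y ∈ Submodule.span R (π '' s) := by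
      rw [Submodule.span_image, hs]
      exact Submodule.mem_map_of_mem trivial
    exact Submodule.span_le_restrictScalars R (R ⧸ 𝔪) (π '' s) hy
  have hfin : Module.Finite (R ⧸ 𝔪) V := by
    haveI : Module.Finite R V := inferInstance
    exact Module.Finite.of_restrictScalars_finite R (R ⧸ 𝔪) V
  haveI := hfin
  have hd : Module.finrank (R ⧸ 𝔪) V ≤ c := by
    have h := hπ _ hw
    rw [← Set.range_comp] at h
    have h2 := finrank_range_le_card (R := R ⧸ 𝔪) (π ∘ w)
    rw [Set.finrank, h, finrank_top, Fintype.card_fin] at h2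
    exact h2
  obtain ⟨κ, a, ha, hsp, hli⟩ := exists_linearIndependent' (R ⧸ 𝔪) (π ∘ v)
  haveI : Finite κ := hli.finite
  haveI : Fintype κ := Fintype.ofFinite κ
  refine ⟨(Finset.univ : Finset κ).toList.map a, (Finset.nodup_toList _).map ha, ?_, ?_⟩
  · rw [List.length_map, Finset.length_toList, Finset.card_univ]
    exact hli.fintype_card_le_finrank.trans hd
  · have hset : {i | i ∈ (Finset.univ : Finset κ).toList.map a} = Set.range a := by
      ext i
      simp
    rw [hset, ← Set.range_comp]
    refine (IsLocalRing.map_mkQ_eq_top (N := Submodule.span R (Set.range (v ∘ a)))).1 ?_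
    refine eq_top_iff.2 fun x _ => ?_
    have hx : x ∈ Submodule.span (R ⧸ 𝔪) (Set.range ((π ∘ v) ∘ a)) := by
      rw [hsp, Set.range_comp, hπ _ hv]
      trivial
    rw [← Submodule.restrictScalars_mem R, Submodule.restrictScalars_span R (R ⧸ 𝔪) Ideal.Quotient.mk_surjective] at hx
    rw [Submodule.map_span, ← Set.range_comp]
    exact hx

/-- In a regular local ring an ideal with regular quotient, or the unit ideal, is generated by a regular
sequence taken from any given family of generators. -/
theorem exists_sublist_regular [IsRegularLocalRing R] (I : Ideal R) (hI : I = ⊤ ∨ IsRegularLocalRing (R ⧸ I))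
    {ι : Type*} (v : ι → R) (hv : Ideal.span (Set.range v) = I) :
    ∃ l : List ι, l.Nodup ∧ Ideal.ofList (l.map v) = I ∧ IsWeaklyRegular R (l.map v) := by
  rcases hI with rfl | hreg
  · obtain ⟨i, hi⟩ : ∃ i, IsUnit (v i) := by
      by_contra! h
      exact (maximalIdeal.isMaximal R).ne_top (top_le_iff.1 (hv ▸ Ideal.span_le.2
        (by rintro _ ⟨i, rfl⟩; exact h i)))
    refine ⟨[i], List.nodup_singleton i, ?_, ?_⟩
    · rw [List.map_singleton, Ideal.ofList_singleton]
      exact Ideal.span_singleton_eq_top.2 hi
    · rw [List.map_singleton, isWeaklyRegular_cons_iff]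
      exact ⟨hi.isSMulRegular R, IsWeaklyRegular.nil _ _⟩
  obtain ⟨rs, hmem, hrs, hJ⟩ := RegLoc6.exists_list_of_quotient _ R I le_rfl hreg
  let w : Fin rs.length → I := fun j => ⟨rs[(j : ℕ)], hJ.le (Ideal.subset_span (show rs[(j : ℕ)] ∈ {r | r ∈ rs} from List.getElem_mem j.2))⟩
  let v' : ι → I := fun i => ⟨v i, hv ▸ Ideal.subset_span ⟨i, rfl⟩⟩
  have hcv : Submodule.span R (Set.range v') = ⊤ := by
    refine Submodule.map_injective_of_injective (Submodule.injective_subtype (I : Submodule R R)) ?_
    rw [Submodule.map_span, Submodule.map_top, Submodule.range_subtype, ← Set.range_comp]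
    exact hv
  have hcw : Submodule.span R (Set.range w) = ⊤ := by
    refine Submodule.map_injective_of_injective (Submodule.injective_subtype (I : Submodule R R)) ?_
    rw [Submodule.map_span, Submodule.map_top, Submodule.range_subtype, ← Set.range_comp]
    refine Eq.trans ?_ hJ
    refine congrArg Ideal.span (Set.ext fun x => ?_)
    show x ∈ Set.range (fun j : Fin rs.length => rs[(j : ℕ)]) ↔ x ∈ rs
    rw [List.mem_iff_get]
    rfl
  obtain ⟨l, hnd, hlen, hl⟩ := exists_sublist_card_le v' hcv w hcw
  have hspan : Ideal.ofList (l.map v) = I := by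
    rw [ofList_map_eq]
    have h := congrArg (Submodule.map (Submodule.subtype (I : Submodule R R))) hl
    rw [Submodule.map_span, ← Set.image_comp, Submodule.map_top, Submodule.range_subtype] at h
    exact h
  refine ⟨l, hnd, hspan, ?_⟩
  have hIm : I ≤ maximalIdeal R := hJ ▸ Ideal.span_le.2 hmem
  have hmem' : ∀ x ∈ l.map v, x ∈ maximalIdeal R := fun x hx => hIm (hspan ▸ Ideal.subset_span hx)
  have hCM := Groth.Agent.CotTLib.isCM_of_isRegularLocalRing R
  haveI : LocCoh.IsCohenMacaulayLocalRing R := { supportDim_eq_depth := hCM }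
  refine Groth.Agent.S11454.isWeaklyRegular_of_dim (l.map v) hmem' hCM ?_
  have h1 := ringKrullDim_add_length_eq_ringKrullDim_of_isRegular rs
    (IsRegular.of_isWeaklyRegular_of_mem_maximalIdeal R hmem hrs)
  rw [hJ] at h1
  rw [hspan, List.length_map]
  refine le_antisymm ?_ ?_
  · refine le_trans ?_ h1.le
    gcongr
  · haveI : IsNoetherianRing R := inferInstance
    classical
    have h2 := ringKrullDim_le_ringKrullDim_quotient_add_card (R := R) (l.map v).toFinset (fun x hx => by
      rw [IsLocalRing.ringJacobson_eq_maximalIdeal]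
      exact hmem' x (List.mem_toFinset.1 hx))
    have h3 : Ideal.span (((l.map v).toFinset : Finset R) : Set R) = I := by
      rw [List.coe_toFinset]
      exact hspan
    rw [ringKrullDim_eq_of_ringEquiv (Ideal.quotEquivOfEq h3)] at h2
    refine h2.trans ?_
    gcongr
    exact (List.toFinset_card_le _).trans (List.length_map (as := l) v).le

/-- A relation between the members of a regular sequence with coefficients in a larger ideal has its
coefficients in that ideal. -/
theorem mem_of_sum_mem_mul {n : ℕ} (f : Fin n → R) (hf : IsWeaklyRegular R (List.ofFn f))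
    (K : Ideal R) (hfK : ∀ i, f i ∈ K) (a : Fin n → R)
    (h : ∑ i, a i * f i ∈ K * Ideal.span (Set.range f)) (i : Fin n) : a i ∈ K := by
  let I : Ideal R := Ideal.span (Set.range f)
  have hIK : I ≤ K := Ideal.span_le.2 (by rintro _ ⟨j, rfl⟩; exact hfK j)
  by_cases htop : I = ⊤
  · rw [show K = ⊤ from top_le_iff.1 (htop ▸ hIK)]
    trivial
  let f' : Fin n → I := fun j => ⟨f j, Ideal.subset_span ⟨j, rfl⟩⟩
  obtain ⟨b, hb⟩ := S18939.result htop n f' (S15821.result _ _ hf).1 rfl
  obtain ⟨c, hc, hsum⟩ := (Submodule.mem_ideal_smul_span_iff_exists_sum K f _).1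
    (by rw [smul_eq_mul]; exact h)
  rw [Finsupp.sum_fintype c _ (fun j => zero_smul R (f j))] at hsum
  let s : I := ∑ j, (a j - c j) • f' j
  have hs : s = 0 := Subtype.ext (by
    simp only [s, Submodule.coe_sum, Submodule.coe_smul, smul_eq_mul, f', sub_mul, Finset.sum_sub_distrib,
      ZeroMemClass.coe_zero]
    rw [sub_eq_zero]
    exact hsum.symm)
  have hzero : ∑ j, Ideal.Quotient.mk I (a j - c j) • b j = 0 := by
    have : I.toCotangent s = 0 := by rw [hs, map_zero]
    rw [map_sum] at this
    simp only [map_smul, ← hb] at this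
    rw [← this]
    exact Finset.sum_congr rfl fun j _ => rfl
  have h3 := Fintype.linearIndependent_iff.1 b.linearIndependent _ hzero i
  have h4 := hIK (Ideal.Quotient.eq_zero_iff_mem.1 h3)
  simpa using K.add_mem h4 (hc i)

variable {A : Type u} [CommRing A] (p : Ideal A) [p.IsPrime]

/-- The extension of an ideal to the local ring at a prime has regular quotient when the quotient is regular. -/
theorem eq_top_or_isRegularLocalRing (I : Ideal A) [IsRegularRing (A ⧸ I)] :
    I.map (algebraMap A (Localization.AtPrime p)) = ⊤ ∨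
      IsRegularLocalRing (Localization.AtPrime p ⧸ I.map (algebraMap A (Localization.AtPrime p))) := by
  by_cases h : I ≤ p
  · have hc : (p.map (Ideal.Quotient.mk I)).comap (Ideal.Quotient.mk I) = p := by
      rw [Ideal.comap_map_of_surjective _ Ideal.Quotient.mk_surjective]
      exact sup_eq_left.2 (by rwa [← RingHom.ker_eq_comap_bot, Ideal.mk_ker])
    haveI : (p.map (Ideal.Quotient.mk I)).IsPrime :=
      Ideal.map_isPrime_of_surjective Ideal.Quotient.mk_surjective (by rwa [Ideal.mk_ker])
    obtain ⟨e⟩ := RegLoc6.exists_quotLocalEquiv I p (p.map (Ideal.Quotient.mk I)) hc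
    haveI := IsRegularRing.isRegularLocalRing_localization (R := A ⧸ I) (p.map (Ideal.Quotient.mk I))
    exact Or.inr (IsRegularLocalRing.of_ringEquiv e.symm)
  · obtain ⟨a, haI, hap⟩ := SetLike.not_le_iff_exists.1 h
    exact Or.inl (Ideal.eq_top_of_isUnit_mem _ (Ideal.mem_map_of_mem _ haI)
      (IsLocalization.map_units (Localization.AtPrime p) (⟨a, hap⟩ : p.primeCompl)))

end Groth.Agent.H28.Tor3
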